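import Cfsg.Agent.Helper39.Nse.Group

/-!
# The order counts of the alternating groups of degree 4, 5, 6
-/

set_option autoImplicit false

namespace Cfsg.Agent.Helper39.Nse

open Cfsg.Agent.Helper66 (cnt cnt_one)

/-- number of even permutations of `Fin n` of order exactly `m` (for `0 < m`) -/
def ordCount (n m : ℕ) : ℕ :=
  (Finset.univ.filter (fun g : Equiv.Perm (Fin n) =>
    Equiv.Perm.sign g = 1 ∧ g ^ m = 1 ∧ ∀ j < m, 0 < j → g ^ j ≠ 1)).card

theorem cnt_alt (n m : ℕ) (hm : 0 < m) : cnt (alternatingGroup (Fin n)) m = ordCount n m := by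
  unfold cnt ordCount
  rw [← Fintype.card_subtype, ← Nat.card_eq_fintype_card]
  apply Nat.card_congr
  refine (Equiv.subtypeEquivRight (q := fun g : alternatingGroup (Fin n) =>
    orderOf (g : Equiv.Perm (Fin n)) = m) ?_).trans
    ((Equiv.subtypeSubtypeEquivSubtypeInter (fun g : Equiv.Perm (Fin n) =>
      g ∈ alternatingGroup (Fin n)) (fun g => orderOf g = m)).trans
      (Equiv.subtypeEquivRight ?_))
  · intro g
    rw [Subgroup.orderOf_coe]
  · intro g
    rw [Equiv.Perm.mem_alternatingGroup, orderOf_eq_iff hm]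

theorem alt_orders4 : ∀ g : Equiv.Perm (Fin 4), Equiv.Perm.sign g = 1 → g ^ 2 = 1 ∨ g ^ 3 = 1 := by
  decide +kernel

theorem alt_orders5 : ∀ g : Equiv.Perm (Fin 5), Equiv.Perm.sign g = 1 →
    g ^ 2 = 1 ∨ g ^ 3 = 1 ∨ g ^ 5 = 1 := by
  decide +kernel

theorem ordCount_4_2 : ordCount 4 2 = 3 := by decide +kernel
theorem ordCount_4_3 : ordCount 4 3 = 8 := by decide +kernel
theorem ordCount_5_2 : ordCount 5 2 = 15 := by decide +kernel
theorem ordCount_5_3 : ordCount 5 3 = 20 := by decide +kernel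
theorem ordCount_5_5 : ordCount 5 5 = 24 := by decide +kernel

theorem alt_orders6 : ∀ g : Equiv.Perm (Fin 6), Equiv.Perm.sign g = 1 →
    g ^ 4 = 1 ∨ g ^ 3 = 1 ∨ g ^ 5 = 1 := by
  decide +kernel

theorem ordCount_6_2 : ordCount 6 2 = 45 := by decide +kernel
theorem ordCount_6_3 : ordCount 6 3 = 80 := by decide +kernel
theorem ordCount_6_4 : ordCount 6 4 = 90 := by decide +kernel
theorem ordCount_6_5 : ordCount 6 5 = 144 := by decide +kernel

theorem alt_order_dvd {n : ℕ} (g : alternatingGroup (Fin n)) {k : ℕ}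
    (h : (g : Equiv.Perm (Fin n)) ^ k = 1) : orderOf g ∣ k := by
  rw [← Subgroup.orderOf_coe]
  exact orderOf_dvd_of_pow_eq_one h

theorem dvd_two {m : ℕ} (h : m ∣ 2) : m = 1 ∨ m = 2 := (Nat.dvd_prime Nat.prime_two).mp h
theorem dvd_three {m : ℕ} (h : m ∣ 3) : m = 1 ∨ m = 3 := (Nat.dvd_prime Nat.prime_three).mp h
theorem dvd_five {m : ℕ} (h : m ∣ 5) : m = 1 ∨ m = 5 := (Nat.dvd_prime Nat.prime_five).mp h
theorem dvd_four {m : ℕ} (h : m ∣ 4) : m = 1 ∨ m = 2 ∨ m = 4 := by
  have hle := Nat.le_of_dvd (by norm_num) h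
  interval_cases m
  · simp at h
  · exact Or.inl rfl
  · exact Or.inr (Or.inl rfl)
  · norm_num at h
  · exact Or.inr (Or.inr rfl)

theorem alt_counts4 (v : ℕ) :
    (v ≠ 0 ∧ ∃ m, cnt (alternatingGroup (Fin 4)) m = v) ↔ (v = 1 ∨ v ∈ [3, 8]) := by
  have c2 : cnt (alternatingGroup (Fin 4)) 2 = 3 := by
    rw [cnt_alt 4 2 (by norm_num), ordCount_4_2]
  have c3 : cnt (alternatingGroup (Fin 4)) 3 = 8 := by
    rw [cnt_alt 4 3 (by norm_num), ordCount_4_3]
  constructor
  · rintro ⟨hv, m, rfl⟩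
    obtain ⟨g, hg⟩ := cnt_ne_zero_iff.mp hv
    have hm : m = 1 ∨ m = 2 ∨ m = 3 := by
      rw [← hg]
      rcases alt_orders4 g.1 (Equiv.Perm.mem_alternatingGroup.mp g.2) with h | h
      · rcases dvd_two (alt_order_dvd g h) with h | h
        · exact Or.inl h
        · exact Or.inr (Or.inl h)
      · rcases dvd_three (alt_order_dvd g h) with h | h
        · exact Or.inl h
        · exact Or.inr (Or.inr h)
    rcases hm with rfl | rfl | rfl
    · exact Or.inl cnt_one
    · right; rw [c2]; simp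
    · right; rw [c3]; simp
  · rintro (rfl | h)
    · exact ⟨one_ne_zero, 1, cnt_one⟩
    · simp only [List.mem_cons, List.not_mem_nil, or_false] at h
      rcases h with rfl | rfl
      · exact ⟨by norm_num, 2, c2⟩
      · exact ⟨by norm_num, 3, c3⟩

theorem alt_counts5 (v : ℕ) :
    (v ≠ 0 ∧ ∃ m, cnt (alternatingGroup (Fin 5)) m = v) ↔ (v = 1 ∨ v ∈ [15, 20, 24]) := by
  have c2 : cnt (alternatingGroup (Fin 5)) 2 = 15 := by
    rw [cnt_alt 5 2 (by norm_num), ordCount_5_2]
  have c3 : cnt (alternatingGroup (Fin 5)) 3 = 20 := by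
    rw [cnt_alt 5 3 (by norm_num), ordCount_5_3]
  have c5 : cnt (alternatingGroup (Fin 5)) 5 = 24 := by
    rw [cnt_alt 5 5 (by norm_num), ordCount_5_5]
  constructor
  · rintro ⟨hv, m, rfl⟩
    obtain ⟨g, hg⟩ := cnt_ne_zero_iff.mp hv
    have hm : m = 1 ∨ m = 2 ∨ m = 3 ∨ m = 5 := by
      rw [← hg]
      rcases alt_orders5 g.1 (Equiv.Perm.mem_alternatingGroup.mp g.2) with h | h | h
      · rcases dvd_two (alt_order_dvd g h) with h | h
        · exact Or.inl h
        · exact Or.inr (Or.inl h)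
      · rcases dvd_three (alt_order_dvd g h) with h | h
        · exact Or.inl h
        · exact Or.inr (Or.inr (Or.inl h))
      · rcases dvd_five (alt_order_dvd g h) with h | h
        · exact Or.inl h
        · exact Or.inr (Or.inr (Or.inr h))
    rcases hm with rfl | rfl | rfl | rfl
    · exact Or.inl cnt_one
    · right; rw [c2]; simp
    · right; rw [c3]; simp
    · right; rw [c5]; simp
  · rintro (rfl | h)
    · exact ⟨one_ne_zero, 1, cnt_one⟩
    · simp only [List.mem_cons, List.not_mem_nil, or_false] at h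
      rcases h with rfl | rfl | rfl
      · exact ⟨by norm_num, 2, c2⟩
      · exact ⟨by norm_num, 3, c3⟩
      · exact ⟨by norm_num, 5, c5⟩

theorem alt_counts6 (v : ℕ) :
    (v ≠ 0 ∧ ∃ m, cnt (alternatingGroup (Fin 6)) m = v) ↔ (v = 1 ∨ v ∈ [45, 80, 90, 144]) := by
  have c2 : cnt (alternatingGroup (Fin 6)) 2 = 45 := by
    rw [cnt_alt 6 2 (by norm_num), ordCount_6_2]
  have c3 : cnt (alternatingGroup (Fin 6)) 3 = 80 := by
    rw [cnt_alt 6 3 (by norm_num), ordCount_6_3]
  have c4 : cnt (alternatingGroup (Fin 6)) 4 = 90 := by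
    rw [cnt_alt 6 4 (by norm_num), ordCount_6_4]
  have c5 : cnt (alternatingGroup (Fin 6)) 5 = 144 := by
    rw [cnt_alt 6 5 (by norm_num), ordCount_6_5]
  constructor
  · rintro ⟨hv, m, rfl⟩
    obtain ⟨g, hg⟩ := cnt_ne_zero_iff.mp hv
    have hm : m = 1 ∨ m = 2 ∨ m = 3 ∨ m = 4 ∨ m = 5 := by
      rw [← hg]
      rcases alt_orders6 g.1 (Equiv.Perm.mem_alternatingGroup.mp g.2) with h | h | h
      · rcases dvd_four (alt_order_dvd g h) with h | h | h
        · exact Or.inl h
        · exact Or.inr (Or.inl h)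
        · exact Or.inr (Or.inr (Or.inr (Or.inl h)))
      · rcases dvd_three (alt_order_dvd g h) with h | h
        · exact Or.inl h
        · exact Or.inr (Or.inr (Or.inl h))
      · rcases dvd_five (alt_order_dvd g h) with h | h
        · exact Or.inl h
        · exact Or.inr (Or.inr (Or.inr (Or.inr h)))
    rcases hm with rfl | rfl | rfl | rfl | rfl
    · exact Or.inl cnt_one
    · right; rw [c2]; simp
    · right; rw [c3]; simp
    · right; rw [c4]; simp
    · right; rw [c5]; simp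
  · rintro (rfl | h)
    · exact ⟨one_ne_zero, 1, cnt_one⟩
    · simp only [List.mem_cons, List.not_mem_nil, or_false] at h
      rcases h with rfl | rfl | rfl | rfl
      · exact ⟨by norm_num, 2, c2⟩
      · exact ⟨by norm_num, 3, c3⟩
      · exact ⟨by norm_num, 4, c4⟩
      · exact ⟨by norm_num, 5, c5⟩

end Cfsg.Agent.Helper39.Nse
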