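import Cfsg.Agent.Helper39.Nse.Profile

/-!
# Bounding the order `N` of a profile and running the search over the box of candidates
-/

set_option autoImplicit false

namespace Cfsg.Agent.Helper39.Nse

/-- necessary inequality `N ≤ 1 + vmax * (τ(N) - 1)` for `N = 2^a 3^b 5^c 7^d` -/
def pre4 (vmax a b c d : ℕ) : Bool :=
  decide (2 ^ a * 3 ^ b * 5 ^ c * 7 ^ d ≤ 1 + vmax * ((a + 1) * (b + 1) * (c + 1) * (d + 1) - 1))

/-- every profile with `N = 2^a 3^b 5^c 7^d` in the box has `N = N0` and is the expected one -/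
def check4 (vmax : ℕ) (vals : List ℕ) (N0 : ℕ) (expected : List (ℕ × ℕ)) (A B C D : ℕ) : Bool :=
  (List.range (A + 1)).all fun a => (List.range (B + 1)).all fun b =>
  (List.range (C + 1)).all fun c => (List.range (D + 1)).all fun d =>
    !(pre4 vmax a b c d) ||
      (solutions (2 ^ a * 3 ^ b * 5 ^ c * 7 ^ d) vals).all
        (fun S => decide (2 ^ a * 3 ^ b * 5 ^ c * 7 ^ d = N0) && decide (S = expected))

theorem card_divisors_prime_pow {p : ℕ} (hp : p.Prime) (k : ℕ) : (p ^ k).divisors.card = k + 1 := by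
  rw [Nat.divisors_prime_pow hp, Finset.card_map, Finset.card_range]

theorem card_divisors4 (a b c d : ℕ) :
    (2 ^ a * 3 ^ b * 5 ^ c * 7 ^ d).divisors.card = (a + 1) * (b + 1) * (c + 1) * (d + 1) := by
  have h2 : Nat.Prime 2 := by norm_num
  have h3 : Nat.Prime 3 := by norm_num
  have h5 : Nat.Prime 5 := by norm_num
  have h7 : Nat.Prime 7 := by norm_num
  have c23 : Nat.Coprime (2 ^ a) (3 ^ b) := Nat.Coprime.pow _ _ (by norm_num)
  have c25 : Nat.Coprime (2 ^ a) (5 ^ c) := Nat.Coprime.pow _ _ (by norm_num)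
  have c35 : Nat.Coprime (3 ^ b) (5 ^ c) := Nat.Coprime.pow _ _ (by norm_num)
  have c27 : Nat.Coprime (2 ^ a) (7 ^ d) := Nat.Coprime.pow _ _ (by norm_num)
  have c37 : Nat.Coprime (3 ^ b) (7 ^ d) := Nat.Coprime.pow _ _ (by norm_num)
  have c57 : Nat.Coprime (5 ^ c) (7 ^ d) := Nat.Coprime.pow _ _ (by norm_num)
  rw [Nat.Coprime.card_divisors_mul (Nat.Coprime.mul_left (Nat.Coprime.mul_left c27 c37) c57),
    Nat.Coprime.card_divisors_mul (Nat.Coprime.mul_left c25 c35),
    Nat.Coprime.card_divisors_mul c23,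
    card_divisors_prime_pow h2, card_divisors_prime_pow h3, card_divisors_prime_pow h5,
    card_divisors_prime_pow h7]

theorem exists_exponents {N A B C D : ℕ} (h : N ∣ 2 ^ A * 3 ^ B * 5 ^ C * 7 ^ D) :
    ∃ a ≤ A, ∃ b ≤ B, ∃ c ≤ C, ∃ d ≤ D, N = 2 ^ a * 3 ^ b * 5 ^ c * 7 ^ d := by
  have h2 : Nat.Prime 2 := by norm_num
  have h3 : Nat.Prime 3 := by norm_num
  have h5 : Nat.Prime 5 := by norm_num
  have h7 : Nat.Prime 7 := by norm_num
  obtain ⟨x, w, hx, hw, rfl⟩ := Nat.dvd_mul.mp h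
  obtain ⟨y, z, hy, hz, rfl⟩ := Nat.dvd_mul.mp hx
  obtain ⟨u, v, hu, hv, rfl⟩ := Nat.dvd_mul.mp hy
  obtain ⟨a, ha, rfl⟩ := (Nat.dvd_prime_pow h2).mp hu
  obtain ⟨b, hb, rfl⟩ := (Nat.dvd_prime_pow h3).mp hv
  obtain ⟨c, hc, rfl⟩ := (Nat.dvd_prime_pow h5).mp hz
  obtain ⟨d, hd, rfl⟩ := (Nat.dvd_prime_pow h7).mp hw
  exact ⟨a, ha, b, hb, c, hc, d, hd, rfl⟩

section
variable {N : ℕ} {vals : List ℕ} {s : ℕ → ℕ}

theorem Profile.le_card (P : Profile N vals s) {vmax : ℕ} (hv : ∀ v ∈ vals, v ≤ vmax) :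
    N ≤ 1 + vmax * (N.divisors.card - 1) := by
  have h1 : 1 ∈ N.divisors := Nat.one_mem_divisors.mpr P.pos.ne'
  have ht := P.total
  rw [← Finset.add_sum_erase _ _ h1, P.one] at ht
  have hle : ∑ k ∈ N.divisors.erase 1, s k ≤ (N.divisors.erase 1).card • vmax := by
    apply Finset.sum_le_card_nsmul
    intro k hk
    have hk1 : k ≠ 1 := (Finset.mem_erase.mp hk).1
    rcases P.cand k hk1 with h | h
    · rw [h]; exact Nat.zero_le _
    · exact hv _ h
  rw [Finset.card_erase_of_mem h1, smul_eq_mul, mul_comm] at hle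
  omega

theorem Profile.prime_cond (P : Profile N vals s) {p : ℕ} (hp : p.Prime) (hpN : p ∣ N) :
    ∃ v ∈ vals, p ∣ 1 + v ∧ (p - 1) ∣ v := by
  have h0 := P.cauchy p hp hpN
  rcases P.cand p hp.ne_one with h | h
  · exact absurd h h0
  · refine ⟨s p, h, ?_, ?_⟩
    · have := P.frob p hpN
      rwa [hp.sum_divisors, P.one, add_comm] at this
    · have := P.tot p
      rwa [Nat.totient_prime hp] at this

theorem Profile.pow_le (P : Profile N vals s) {vmax : ℕ} (hv : ∀ v ∈ vals, v ≤ vmax) {p k : ℕ}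
    (hp : p.Prime) (hpk : p ^ k ∣ N) : p ^ k ≤ 1 + vmax * k := by
  have hf := P.frob (p ^ k) hpk
  rw [Nat.sum_divisors_prime_pow hp, Finset.sum_range_succ', pow_zero, P.one] at hf
  have hle : ∑ i ∈ Finset.range k, s (p ^ (i + 1)) ≤ (Finset.range k).card • vmax := by
    apply Finset.sum_le_card_nsmul
    intro i _
    have hne : p ^ (i + 1) ≠ 1 := (Nat.one_lt_pow (Nat.succ_ne_zero i) hp.one_lt).ne'
    rcases P.cand _ hne with h | h
    · rw [h]; exact Nat.zero_le _
    · exact hv _ h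
  rw [Finset.card_range, smul_eq_mul, mul_comm] at hle
  have := Nat.le_of_dvd (by omega) hf
  omega

theorem Profile.of_check4 (P : Profile N vals s) {vmax : ℕ} (hv : ∀ v ∈ vals, v ≤ vmax)
    {N0 : ℕ} {expected : List (ℕ × ℕ)} {A B C D : ℕ}
    (hN : N ∣ 2 ^ A * 3 ^ B * 5 ^ C * 7 ^ D)
    (hc : check4 vmax vals N0 expected A B C D = true) :
    N = N0 ∧ assign s (keys N) = expected := by
  obtain ⟨a, ha, b, hb, c, hc', d, hd, hNe⟩ := exists_exponents hN
  unfold check4 at hc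
  simp only [List.all_eq_true, List.mem_range] at hc
  have h4 := hc a (by omega) b (by omega) c (by omega) d (by omega)
  rw [Bool.or_eq_true] at h4
  rcases h4 with h | h
  · exfalso
    have h1 := P.le_card hv
    rw [hNe, card_divisors4] at h1
    simp only [pre4, Bool.not_eq_true', decide_eq_false_iff_not] at h
    exact h h1
  · have hm := P.mem_solutions
    rw [hNe] at hm
    have := List.all_eq_true.mp h _ hm
    simp only [Bool.and_eq_true, decide_eq_true_eq] at this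
    rw [hNe]
    exact this

end

/-- growth lemma used to bound the exponents -/
theorem lt_pow_of_lt {p vmax B : ℕ} (hp : 2 ≤ p) (h0 : 1 + vmax * (B + 1) < p ^ (B + 1))
    (h1 : vmax ≤ p ^ (B + 1)) : ∀ k, B < k → 1 + vmax * k < p ^ k := by
  intro k hk
  induction k, (show B + 1 ≤ k from hk) using Nat.le_induction with
  | base => exact h0
  | succ k hk' ih =>
    have ih' := ih (by omega)
    have hmono : p ^ (B + 1) ≤ p ^ k := Nat.pow_le_pow_right (by omega) hk'
    have : 2 * p ^ k ≤ p ^ (k + 1) := by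
      rw [pow_succ, mul_comm]
      exact Nat.mul_le_mul_left _ hp
    rw [mul_add, mul_one]
    omega

theorem pow_dvd_of_le {p vmax B k : ℕ} (hp : 2 ≤ p) (h0 : 1 + vmax * (B + 1) < p ^ (B + 1))
    (h1 : vmax ≤ p ^ (B + 1)) (hk : p ^ k ≤ 1 + vmax * k) : p ^ k ∣ p ^ B := by
  apply pow_dvd_pow
  by_contra hlt
  have := lt_pow_of_lt hp h0 h1 k (by omega)
  omega

/-- trial division -/
def isPrimeB (p : ℕ) : Bool :=
  decide (2 ≤ p) && (List.range p).all (fun d => decide (d < 2) || decide (p % d ≠ 0))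

theorem isPrimeB_of_prime {p : ℕ} (hp : p.Prime) : isPrimeB p = true := by
  unfold isPrimeB
  simp only [Bool.and_eq_true, decide_eq_true_eq, List.all_eq_true, List.mem_range,
    Bool.or_eq_true]
  refine ⟨hp.two_le, fun d hd => ?_⟩
  by_cases h2 : d < 2
  · exact Or.inl h2
  · right
    intro hmod
    have hdvd : d ∣ p := Nat.dvd_of_mod_eq_zero hmod
    rcases (Nat.dvd_prime hp).mp hdvd with h | h <;> omega

/-- the primes `p` with `p ∣ 1 + v` and `p - 1 ∣ v` for some `v ∈ vals` are among `2, 3, 5, 7` -/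
def primesOK (vals : List ℕ) : Bool :=
  vals.all fun v => (List.range (v + 2)).all fun p =>
    !(isPrimeB p) || !(decide (p ∣ 1 + v)) || !(decide ((p - 1) ∣ v)) ||
      (decide (p = 2) || decide (p = 3) || decide (p = 5) || decide (p = 7))

theorem primes_of_primesOK {vals : List ℕ} (h : primesOK vals = true) {p : ℕ} (hp : p.Prime)
    (hv : ∃ v ∈ vals, p ∣ 1 + v ∧ (p - 1) ∣ v) : p = 2 ∨ p = 3 ∨ p = 5 ∨ p = 7 := by
  obtain ⟨v, hvm, h1, h2⟩ := hv
  unfold primesOK at h
  rw [List.all_eq_true] at h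
  have h' := h v hvm
  rw [List.all_eq_true] at h'
  have hple : p ≤ 1 + v := Nat.le_of_dvd (by omega) h1
  have := h' p (List.mem_range.mpr (by omega))
  simp only [Bool.or_eq_true, Bool.not_eq_true', decide_eq_false_iff_not, decide_eq_true_eq,
    isPrimeB_of_prime hp] at this
  rcases this with ((h | h) | h) | h
  · exact absurd h (by simp)
  · exact absurd h1 h
  · exact absurd h2 h
  · tauto

/-- the exponent bounds defining the box -/
def boundsOK (vmax A B C D : ℕ) : Bool :=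
  decide (1 + vmax * (A + 1) < 2 ^ (A + 1) ∧ vmax ≤ 2 ^ (A + 1)) &&
  decide (1 + vmax * (B + 1) < 3 ^ (B + 1) ∧ vmax ≤ 3 ^ (B + 1)) &&
  decide (1 + vmax * (C + 1) < 5 ^ (C + 1) ∧ vmax ≤ 5 ^ (C + 1)) &&
  decide (1 + vmax * (D + 1) < 7 ^ (D + 1) ∧ vmax ≤ 7 ^ (D + 1))

section
variable {N : ℕ} {vals : List ℕ} {s : ℕ → ℕ}

theorem Profile.dvd_box (P : Profile N vals s) {vmax : ℕ} (hv : ∀ v ∈ vals, v ≤ vmax)
    {A B C D : ℕ} (hpr : primesOK vals = true) (hb : boundsOK vmax A B C D = true) :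
    N ∣ 2 ^ A * 3 ^ B * 5 ^ C * 7 ^ D := by
  unfold boundsOK at hb
  simp only [Bool.and_eq_true, decide_eq_true_eq] at hb
  obtain ⟨⟨⟨h2, h3⟩, h5⟩, h7⟩ := hb
  rw [Nat.dvd_iff_prime_pow_dvd_dvd]
  intro p k hp hpk
  rcases Nat.eq_zero_or_pos k with rfl | hk
  · simp
  have hpN : p ∣ N := (dvd_pow_self p hk.ne').trans hpk
  have hle := P.pow_le hv hp hpk
  rcases primes_of_primesOK hpr hp (P.prime_cond hp hpN) with rfl | rfl | rfl | rfl
  · exact (pow_dvd_of_le (by norm_num) h2.1 h2.2 hle).trans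
      (Dvd.dvd.mul_right (Dvd.dvd.mul_right (dvd_mul_right _ _) _) _)
  · exact (pow_dvd_of_le (by norm_num) h3.1 h3.2 hle).trans
      (Dvd.dvd.mul_right (Dvd.dvd.mul_right (dvd_mul_left _ _) _) _)
  · exact (pow_dvd_of_le (by norm_num) h5.1 h5.2 hle).trans
      (Dvd.dvd.mul_right (dvd_mul_left _ _) _)
  · exact (pow_dvd_of_le (by norm_num) h7.1 h7.2 hle).trans (dvd_mul_left _ _)

/-- the order and the whole profile are determined by a successful run of the checks -/
theorem Profile.solve (P : Profile N vals s) {vmax A B C D N0 : ℕ} {expected : List (ℕ × ℕ)}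
    (hv : vals.all (fun v => decide (v ≤ vmax)) = true) (hpr : primesOK vals = true)
    (hb : boundsOK vmax A B C D = true)
    (hc : check4 vmax vals N0 expected A B C D = true) :
    N = N0 ∧ assign s (keys N0) = expected := by
  have hv' : ∀ v ∈ vals, v ≤ vmax := by
    intro v hvm
    have := List.all_eq_true.mp hv v hvm
    simpa using this
  obtain ⟨h1, h2⟩ := P.of_check4 hv' (P.dvd_box hv' hpr hb) hc
  exact ⟨h1, h1 ▸ h2⟩

end

theorem value_of_assign {s : ℕ → ℕ} {l : List ℕ} {expected : List (ℕ × ℕ)}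
    (h : assign s l = expected) {k v : ℕ} (hk : (k, v) ∈ expected) : s k = v := by
  rw [← h] at hk
  obtain ⟨k', -, he⟩ := List.mem_map.mp hk
  cases he
  rfl

theorem key_le_of_assign {s : ℕ → ℕ} {N : ℕ} {expected : List (ℕ × ℕ)} (hN : 0 < N)
    (h : assign s (keys N) = expected) {B : ℕ}
    (hB : expected.all (fun p => decide (p.2 = 0) || decide (p.1 ≤ B)) = true)
    {k : ℕ} (hk : k ∣ N) (hs : s k ≠ 0) : k ≤ B := by
  have hmem : (k, s k) ∈ assign s (keys N) :=
    List.mem_map.mpr ⟨k, (mem_keys hN).mpr ⟨Nat.pos_of_dvd_of_pos hk hN, hk⟩, rfl⟩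
  rw [h] at hmem
  have := List.all_eq_true.mp hB _ hmem
  simp only [Bool.or_eq_true, decide_eq_true_eq] at this
  rcases this with h0 | h0
  · exact absurd h0 hs
  · exact h0

end Cfsg.Agent.Helper39.Nse
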