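import Cfsg.Agent.Helper39.Nse.Box

/-!
# The three runs of the search
-/

set_option autoImplicit false

namespace Cfsg.Agent.Helper39.Nse

/-- the order profile of `A₄` -/
def exp4 : List (ℕ × ℕ) := [(1, 1), (2, 3), (3, 8), (4, 0), (6, 0), (12, 0)]

/-- the order profile of `A₅` -/
def exp5 : List (ℕ × ℕ) :=
  [(1, 1), (2, 15), (3, 20), (4, 0), (5, 24), (6, 0), (10, 0), (12, 0), (15, 0), (20, 0), (30, 0),
    (60, 0)]

/-- the order profile of `A₆` -/
def exp6 : List (ℕ × ℕ) :=
  [(1, 1), (2, 45), (3, 80), (4, 90), (5, 144), (6, 0), (8, 0), (9, 0), (10, 0), (12, 0), (15, 0),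
    (18, 0), (20, 0), (24, 0), (30, 0), (36, 0), (40, 0), (45, 0), (60, 0), (72, 0), (90, 0),
    (120, 0), (180, 0), (360, 0)]

set_option maxRecDepth 100000 in
theorem check_4 : check4 8 [3, 8] 12 exp4 5 2 1 1 = true := by decide +kernel

set_option maxRecDepth 100000 in
theorem check_5 : check4 24 [15, 20, 24] 60 exp5 7 4 2 2 = true := by decide +kernel

set_option maxRecDepth 100000 in
theorem check_6 : check4 144 [45, 80, 90, 144] 360 exp6 10 6 3 3 = true := by decide +kernel

theorem primes_4 : primesOK [3, 8] = true := by decide +kernel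
theorem primes_5 : primesOK [15, 20, 24] = true := by decide +kernel
theorem primes_6 : primesOK [45, 80, 90, 144] = true := by decide +kernel

theorem bounds_4 : boundsOK 8 5 2 1 1 = true := by decide +kernel
theorem bounds_5 : boundsOK 24 7 4 2 2 = true := by decide +kernel
theorem bounds_6 : boundsOK 144 10 6 3 3 = true := by decide +kernel

end Cfsg.Agent.Helper39.Nse
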