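import Cfsg.Agent.Helper39.Nse.Profile
import Cfsg.Agent.Helper66.OrderCount

/-!
# The order counts of a finite group form a profile
-/

set_option autoImplicit false
set_option linter.style.haveILetI false

namespace Cfsg.Agent.Helper39.Nse

open Cfsg.Agent.Helper66 (cnt cnt_one)

universe u

variable {G : Type u} [Group G] [Finite G]

theorem cnt_ne_zero_iff {k : ℕ} : cnt G k ≠ 0 ↔ ∃ g : G, orderOf g = k := by
  constructor
  · intro h
    by_contra hne
    push Not at hne
    exact h (Cfsg.Agent.Helper66.cnt_eq_zero_of_forall_ne hne)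
  · rintro ⟨g, rfl⟩
    exact (Cfsg.Agent.Helper66.cnt_pos_of_orderOf g).ne'

/-- the number of elements of order `k` is a multiple of `φ k` -/
theorem totient_dvd_cnt (k : ℕ) : Nat.totient k ∣ cnt G k := by
  classical
  haveI : Fintype G := Fintype.ofFinite G
  have h2 : cnt G k = (Finset.univ.filter (fun g : G => orderOf g = k)).card := by
    unfold cnt
    rw [Nat.card_eq_fintype_card, Fintype.card_subtype]
  rw [h2, Finset.card_eq_sum_card_fiberwise (f := fun g : G => Subgroup.zpowers g)
    (t := Finset.univ) (fun _ _ => Finset.mem_univ _)]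
  apply Finset.dvd_sum
  intro C _
  by_cases hne : ((Finset.univ.filter (fun g : G => orderOf g = k)).filter
      (fun g => Subgroup.zpowers g = C)).Nonempty
  · obtain ⟨g0, hg0⟩ := hne
    rw [Finset.mem_filter, Finset.mem_filter] at hg0
    obtain ⟨⟨-, hg0k⟩, hg0C⟩ := hg0
    have hcyc : IsCyclic C := by
      rw [← hg0C]
      infer_instance
    have hcard : Nat.card C = k := by
      rw [← hg0C, Nat.card_zpowers, hg0k]
    haveI : Fintype C := Fintype.ofFinite C
    have hcard' : Fintype.card C = k := by rw [← Nat.card_eq_fintype_card, hcard]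
    have key := IsCyclic.card_orderOf_eq_totient (α := C) (d := k) (by rw [hcard'])
    rw [← key]
    apply dvd_of_eq
    apply Finset.card_bij (fun (c : C) _ => (c : G))
    · intro c hc
      rw [Finset.mem_filter] at hc
      rw [Finset.mem_filter, Finset.mem_filter]
      have hck : orderOf (c : G) = k := by rw [Subgroup.orderOf_coe]; exact hc.2
      refine ⟨⟨Finset.mem_univ _, hck⟩, ?_⟩
      apply Subgroup.eq_of_le_of_card_ge
      · rw [Subgroup.zpowers_le]; exact c.2
      · rw [Nat.card_zpowers, hck, hcard]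
    · intro a _ b _ hab
      exact Subtype.ext hab
    · intro g hg
      rw [Finset.mem_filter, Finset.mem_filter] at hg
      obtain ⟨⟨-, hgk⟩, hgC⟩ := hg
      have hgmem : g ∈ C := by rw [← hgC]; exact Subgroup.mem_zpowers g
      refine ⟨⟨g, hgmem⟩, ?_, rfl⟩
      rw [Finset.mem_filter]
      refine ⟨Finset.mem_univ _, ?_⟩
      rw [← Subgroup.orderOf_coe]
      exact hgk
  · rw [Finset.not_nonempty_iff_eq_empty] at hne
    rw [hne, Finset.card_empty]
    exact dvd_zero _

theorem sum_cnt_divisors {k : ℕ} (hk : 0 < k) :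
    ∑ d ∈ k.divisors, cnt G d = Nat.card {g : G // g ^ k = 1} := by
  symm
  apply Cfsg.Agent.Helper66.card_pow_eq_one_eq_sum
  · intro g hg
    exact Nat.mem_divisors.mpr ⟨orderOf_dvd_of_pow_eq_one hg, hk.ne'⟩
  · intro d hd
    exact (Nat.mem_divisors.mp hd).1

theorem sum_cnt_card : ∑ d ∈ (Nat.card G).divisors, cnt G d = Nat.card G := by
  rw [sum_cnt_divisors Nat.card_pos]
  apply Nat.card_congr
  exact Equiv.subtypeUnivEquiv (fun g => pow_card_eq_one')

/-- the hypothesis of the statement, in a usable form -/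
theorem image_eq (H : Type u) [Group H] [Finite H] :
    ((fun m : ℕ => Nat.card {g : H // orderOf g = m}) '' Set.range (orderOf : H → ℕ)) =
      {v | v ≠ 0 ∧ ∃ m, cnt H m = v} := by
  ext v
  simp only [Set.mem_image, Set.mem_range, Set.mem_ofPred_eq]
  constructor
  · rintro ⟨m, ⟨g, rfl⟩, rfl⟩
    exact ⟨(Cfsg.Agent.Helper66.cnt_pos_of_orderOf g).ne', orderOf g, rfl⟩
  · rintro ⟨hv, m, rfl⟩
    obtain ⟨g, hg⟩ := cnt_ne_zero_iff.mp hv
    exact ⟨m, ⟨g, hg⟩, rfl⟩

/-- the order counts of a group whose set of nonzero counts is `{1} ∪ vals` form a profile -/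
theorem profile_of_counts {vals : List ℕ} {v0 : ℕ} (hv0 : Odd v0) (hv0m : v0 ∈ vals)
    (h1 : 1 ∉ vals)
    (h : ∀ v, (v ≠ 0 ∧ ∃ m, cnt G m = v) ↔ (v = 1 ∨ v ∈ vals)) :
    Profile (Nat.card G) vals (cnt G) := by
  have h0 : (0 : ℕ) ∉ vals := fun h0 => ((h 0).mpr (Or.inr h0)).1 rfl
  -- the odd value is the number of involutions
  have hinv : cnt G 2 = v0 := by
    obtain ⟨hne, m, hm⟩ := (h v0).mpr (Or.inr hv0m)
    have hm2 : m ≤ 2 := by
      by_contra hlt
      have he : Even (Nat.totient m) := Nat.totient_even (by omega)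
      have hd := he.two_dvd.trans (totient_dvd_cnt (G := G) m)
      rw [hm] at hd
      exact (Nat.not_even_iff_odd.mpr hv0) (even_iff_two_dvd.mpr hd)
    obtain ⟨g, hg⟩ := cnt_ne_zero_iff.mp (hm ▸ hne)
    have hpos := orderOf_pos g
    have hm1 : m ≠ 1 := by
      intro hm1
      rw [hm1, cnt_one] at hm
      exact h1 (hm ▸ hv0m)
    have : m = 2 := by omega
    rw [← this]; exact hm
  refine
    { pos := Nat.card_pos
      one := cnt_one
      cand := ?_
      frob := ?_
      closed := ?_
      tot := totient_dvd_cnt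
      cauchy := ?_
      total := sum_cnt_card
      attained := ?_ }
  · intro k hk1
    by_cases hk0 : cnt G k = 0
    · exact Or.inl hk0
    · right
      rcases (h (cnt G k)).mp ⟨hk0, k, rfl⟩ with hone | hmem
      · exfalso
        obtain ⟨g, hg⟩ := cnt_ne_zero_iff.mp hk0
        have := Cfsg.Agent.Helper66.le_two_of_cnt_eq_one (g := g) (by rw [hg]; exact hone)
        rw [hg] at this
        rcases this with h' | h'
        · exact hk1 h'
        · rw [h', hinv] at hone
          exact h1 (hone ▸ hv0m)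
      · exact hmem
  · intro k hk
    have hk0 : 0 < k := Nat.pos_of_dvd_of_pos hk Nat.card_pos
    rw [sum_cnt_divisors hk0]
    exact Cfsg.Agent.Helper75.frobenius_dvd k hk
  · intro k d hdk hk
    obtain ⟨g, hg⟩ := cnt_ne_zero_iff.mp hk
    obtain ⟨j, hj⟩ := Cfsg.Agent.Helper66.exists_pow_orderOf_eq' g (k := d) (by rw [hg]; exact hdk)
    exact cnt_ne_zero_iff.mpr ⟨_, hj⟩
  · intro p hp hpN
    haveI := Fact.mk hp
    obtain ⟨x, hx⟩ := exists_prime_orderOf_dvd_card' (G := G) p hpN
    exact cnt_ne_zero_iff.mpr ⟨x, hx⟩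
  · intro v hv
    obtain ⟨hne, m, hm⟩ := (h v).mpr (Or.inr hv)
    obtain ⟨g, hg⟩ := cnt_ne_zero_iff.mp (hm ▸ hne)
    exact ⟨m, hg ▸ orderOf_dvd_natCard g, hm⟩

end Cfsg.Agent.Helper39.Nse
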