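import Cfsg.Agent.Helper39.Nse.Solver

/-!
# Order profiles are found by the search
-/

set_option autoImplicit false

namespace Cfsg.Agent.Helper39.Nse

/-- the arithmetic facts about the function `s k = #{g : orderOf g = k}` of a group of order `N`
all of whose nonzero values (apart from `s 1 = 1`) lie in `vals` -/
structure Profile (N : ℕ) (vals : List ℕ) (s : ℕ → ℕ) : Prop where
  pos : 0 < N
  one : s 1 = 1
  cand : ∀ k, k ≠ 1 → s k = 0 ∨ s k ∈ vals
  frob : ∀ k, k ∣ N → k ∣ ∑ d ∈ k.divisors, s d
  closed : ∀ k d, d ∣ k → s k ≠ 0 → s d ≠ 0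
  tot : ∀ k, Nat.totient k ∣ s k
  cauchy : ∀ p, p.Prime → p ∣ N → s p ≠ 0
  total : ∑ k ∈ N.divisors, s k = N
  attained : ∀ v ∈ vals, ∃ k, k ∣ N ∧ s k = v

theorem mem_keys {N d : ℕ} (hN : 0 < N) : d ∈ keys N ↔ 0 < d ∧ d ∣ N := by
  unfold keys
  rw [List.mem_filter, List.mem_range]
  simp only [Bool.and_eq_true, decide_eq_true_eq]
  constructor
  · exact fun h => h.2
  · intro h
    exact ⟨Nat.lt_succ_of_le (Nat.le_of_dvd hN h.2), h⟩

theorem keys_pairwise (N : ℕ) : (keys N).Pairwise (· < ·) :=
  List.Pairwise.sublist List.filter_sublist List.pairwise_lt_range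

theorem keys_toFinset {N : ℕ} (hN : 0 < N) : (keys N).toFinset = N.divisors := by
  ext d
  rw [List.mem_toFinset, mem_keys hN, Nat.mem_divisors]
  constructor
  · exact fun h => ⟨h.2, hN.ne'⟩
  · intro h
    exact ⟨Nat.pos_of_dvd_of_pos h.1 hN, h.1⟩

theorem dsum_assign (s : ℕ → ℕ) (pre : List ℕ) (k : ℕ) :
    dsum (assign s pre) k = ((pre.filter (fun d => decide (d ∣ k))).map s).sum := by
  unfold dsum assign
  induction pre with
  | nil => simp
  | cons a l ih =>
    by_cases h : a ∣ k
    · simp only [List.map_cons, List.filter_cons, h, decide_true, if_true, List.sum_cons] 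
      rw [ih]
    · simp only [List.map_cons, List.filter_cons, h, decide_false] 
      simpa using ih

theorem dpos_assign (s : ℕ → ℕ) (pre : List ℕ) (k : ℕ)
    (h : ∀ d ∈ pre, d ∣ k → s d ≠ 0) : dpos (assign s pre) k = true := by
  unfold dpos assign
  rw [List.all_eq_true]
  intro p hp
  rw [List.mem_filter, List.mem_map] at hp
  obtain ⟨⟨d, hd, rfl⟩, hdk⟩ := hp
  simp only [decide_eq_true_eq] at hdk ⊢
  exact h d hd hdk

theorem filter_toFinset_eq {N : ℕ} (hN : 0 < N) {pre post : List ℕ} {k : ℕ}
    (hk : keys N = pre ++ k :: post) :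
    (pre.filter (fun d => decide (d ∣ k))).toFinset = k.properDivisors := by
  have hpw := keys_pairwise N
  rw [hk, List.pairwise_append] at hpw
  obtain ⟨-, h2, h3⟩ := hpw
  rw [List.pairwise_cons] at h2
  have hkmem : k ∈ keys N := by rw [hk]; simp
  obtain ⟨hk0, hkN⟩ := (mem_keys hN).mp hkmem
  ext d
  rw [List.mem_toFinset, List.mem_filter, Nat.mem_properDivisors]
  simp only [decide_eq_true_eq]
  constructor
  · rintro ⟨hd, hdk⟩
    exact ⟨hdk, h3 d hd k (by simp)⟩
  · rintro ⟨hdk, hlt⟩
    refine ⟨?_, hdk⟩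
    have hd0 : 0 < d := Nat.pos_of_dvd_of_pos hdk hk0
    have hdmem : d ∈ keys N := (mem_keys hN).mpr ⟨hd0, hdk.trans hkN⟩
    rw [hk, List.mem_append, List.mem_cons] at hdmem
    rcases hdmem with h | h | h
    · exact h
    · omega
    · have := h2.1 d h
      omega

theorem filter_nodup {N : ℕ} {pre post : List ℕ} {k : ℕ}
    (hk : keys N = pre ++ k :: post) :
    (pre.filter (fun d => decide (d ∣ k))).Nodup := by
  have hpw := keys_pairwise N
  rw [hk, List.pairwise_append] at hpw
  have h1 : pre.Nodup := hpw.1.imp (fun h => Nat.ne_of_lt h)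
  exact h1.sublist List.filter_sublist

theorem Profile.okv {N : ℕ} {vals : List ℕ} {s : ℕ → ℕ} (P : Profile N vals s)
    {pre post : List ℕ} {k : ℕ} (hk : keys N = pre ++ k :: post) :
    okv (assign s pre) k (s k) = true := by
  have hkmem : k ∈ keys N := by rw [hk]; simp
  obtain ⟨hk0, hkN⟩ := (mem_keys P.pos).mp hkmem
  unfold Nse.okv
  simp only [Bool.and_eq_true, Bool.or_eq_true, decide_eq_true_eq]
  refine ⟨⟨?_, ?_⟩, ?_⟩
  · rw [dsum_assign, ← List.sum_toFinset _ (filter_nodup hk), filter_toFinset_eq P.pos hk]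
    have := P.frob k hkN
    rwa [← Nat.insert_self_properDivisors hk0.ne',
      Finset.sum_insert Nat.self_notMem_properDivisors, add_comm] at this
  · by_cases h0 : s k = 0
    · exact Or.inl h0
    · right
      apply dpos_assign
      intro d _ hdk
      exact P.closed k d hdk h0
  · by_cases h2 : k ≤ 2
    · exact Or.inl h2
    · right
      have he : Even (Nat.totient k) := Nat.totient_even (by omega)
      have := he.two_dvd.trans (P.tot k)
      omega

theorem Profile.mem_solutions {N : ℕ} {vals : List ℕ} {s : ℕ → ℕ} (P : Profile N vals s) :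
    assign s (keys N) ∈ solutions N vals := by
  unfold solutions
  rw [List.mem_filter]
  constructor
  · have := search_complete vals s (keys N) [] (by
      intro pre k post hk
      constructor
      · unfold candOf
        by_cases h1 : k = 1
        · rw [if_pos h1, h1, P.one]; simp
        · rw [if_neg h1]
          rcases P.cand k h1 with h | h
          · rw [h]; simp
          · exact List.mem_cons_of_mem _ h
      · rw [List.nil_append]
        exact P.okv hk)
    simpa [assign] using this
  · unfold good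
    simp only [Bool.and_eq_true, decide_eq_true_eq, List.all_eq_true, List.contains_iff_mem]
    have hmap : (assign s (keys N)).map Prod.snd = (keys N).map s := by
      simp [assign, Function.comp_def]
    rw [hmap]
    constructor
    · have hnd : (keys N).Nodup := (keys_pairwise N).imp (fun h => Nat.ne_of_lt h)
      rw [← List.sum_toFinset _ hnd, keys_toFinset P.pos]
      exact P.total
    · intro v hv
      obtain ⟨k, hkN, hkv⟩ := P.attained v hv
      rw [List.mem_map]
      exact ⟨k, (mem_keys P.pos).mpr ⟨Nat.pos_of_dvd_of_pos hkN P.pos, hkN⟩, hkv⟩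

end Cfsg.Agent.Helper39.Nse
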