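import Cfsg.Agent.Helper39.Nse.Group
import Cfsg.Agent.Helper17.SylowKit

/-!
# Groups with the order profile of `A₅` or `A₆` are simple
-/

set_option autoImplicit false
set_option linter.style.haveILetI false

namespace Cfsg.Agent.Helper39.Nse

open Cfsg.Agent.Helper66 (cnt cnt_one)

universe u

variable {G : Type u} [Group G] [Finite G]

omit [Finite G] in
/-- elements of order prime to the index of a normal subgroup lie in it -/
theorem mem_of_coprime_index {K : Subgroup G} [K.Normal] {x : G}
    (h : Nat.Coprime (orderOf x) K.index) : x ∈ K := by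
  have h1 : orderOf (QuotientGroup.mk' K x) ∣ orderOf x := orderOf_map_dvd _ x
  have h2 : orderOf (QuotientGroup.mk' K x) ∣ K.index := by
    rw [Subgroup.index_eq_card]; exact orderOf_dvd_natCard _
  have h3 : orderOf (QuotientGroup.mk' K x) = 1 := Nat.eq_one_of_dvd_coprimes h h1 h2
  rw [orderOf_eq_one_iff] at h3
  exact (QuotientGroup.eq_one_iff x).mp h3

theorem sum_cnt_le (D : Finset ℕ) (K : Subgroup G) (h : ∀ g : G, orderOf g ∈ D → g ∈ K) :
    ∑ d ∈ D, cnt G d ≤ Nat.card K := by
  classical
  haveI : Fintype G := Fintype.ofFinite G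
  have h2 : ∀ d, cnt G d = (Finset.univ.filter (fun g : G => orderOf g = d)).card := by
    intro d
    unfold cnt
    rw [Nat.card_eq_fintype_card, Fintype.card_subtype]
  have h3 : (Finset.univ.filter (fun g : G => orderOf g ∈ D)).card = ∑ d ∈ D, cnt G d := by
    rw [Finset.card_eq_sum_card_fiberwise (f := fun g : G => orderOf g)
      (s := Finset.univ.filter (fun g : G => orderOf g ∈ D)) (t := D)
      (fun g hg => (Finset.mem_filter.mp hg).2)]
    refine Finset.sum_congr rfl (fun d hd => ?_)
    rw [h2 d]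
    congr 1
    ext g
    simp only [Finset.mem_filter, Finset.mem_univ, true_and]
    constructor
    · exact fun h => h.2
    · intro h
      exact ⟨h ▸ hd, h⟩
  rw [← h3]
  have h4 : Nat.card K = (Finset.univ.filter (fun g : G => g ∈ K)).card := by
    rw [Nat.card_eq_fintype_card, Fintype.card_subtype]
  rw [h4]
  apply Finset.card_le_card
  intro g hg
  rw [Finset.mem_filter] at hg ⊢
  exact ⟨hg.1, h g hg.2⟩

theorem cnt_le_of_coprime (K : Subgroup G) [K.Normal] (D : Finset ℕ)
    (h : ∀ d ∈ D, Nat.Coprime d K.index) : ∑ d ∈ D, cnt G d ≤ Nat.card K :=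
  sum_cnt_le D K (fun _ hg => mem_of_coprime_index (h _ hg))

/-- conjugation action of a subgroup on a normal subgroup -/
@[reducible] def conjOn (H K : Subgroup G) [hK : K.Normal] : MulAction H K where
  smul h k := ⟨(h : G) * k * (h : G)⁻¹, hK.conj_mem k k.2 h⟩
  one_smul k := Subtype.ext (by
    show ((1 : H) : G) * k * ((1 : H) : G)⁻¹ = k
    simp)
  mul_smul a b k := Subtype.ext (by
    show ((a * b : H) : G) * k * ((a * b : H) : G)⁻¹ = (a : G) * ((b : G) * k * (b : G)⁻¹) * (a : G)⁻¹
    simp [mul_assoc])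

/-- a fixed-point-free automorphism of prime order `p` of `K` forces `|K| ≡ 1 (mod p)` -/
theorem card_modEq_one_of_fpf {K : Subgroup G} [K.Normal] {g : G} {p : ℕ} [Fact p.Prime]
    (hg : orderOf g = p) (hfix : ∀ k ∈ K, g * k = k * g → k = 1) : Nat.card K ≡ 1 [MOD p] := by
  letI := conjOn (Subgroup.zpowers g) K
  have hP : IsPGroup p (Subgroup.zpowers g) :=
    IsPGroup.of_card (n := 1) (by rw [Nat.card_zpowers, hg, pow_one])
  have key := hP.card_modEq_card_fixedPoints K
  have hfp : Nat.card (MulAction.fixedPoints (Subgroup.zpowers g) K) = 1 := by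
    rw [Nat.card_eq_one_iff_unique]
    have hone : ∀ a : MulAction.fixedPoints (Subgroup.zpowers g) K, (a : K) = 1 := by
      rintro ⟨a, ha⟩
      have h1 := ha ⟨g, Subgroup.mem_zpowers g⟩
      have h2 : g * (a : G) * g⁻¹ = (a : G) := congrArg Subtype.val h1
      have h3 : g * (a : G) = (a : G) * g := by
        calc g * (a : G) = g * (a : G) * g⁻¹ * g := by group
          _ = (a : G) * g := by rw [h2]
      exact Subtype.ext (hfix a a.2 h3)
    constructor
    · constructor
      intro a b
      apply Subtype.ext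
      rw [hone a, hone b]
    · refine ⟨⟨1, fun h => Subtype.ext ?_⟩⟩
      show (h : G) * ((1 : K) : G) * (h : G)⁻¹ = ((1 : K) : G)
      simp
  rw [hfp] at key
  exact key

theorem eq_one_of_commute {K : Subgroup G} {g : G} {p B : ℕ} (hp : p.Prime) (hg : orderOf g = p)
    (hK : ¬ p ∣ Nat.card K) (hord : ∀ x : G, orderOf x ≤ B) (hB : B < 2 * p) :
    ∀ k ∈ K, g * k = k * g → k = 1 := by
  intro k hk hc
  have hcop : Nat.Coprime (orderOf g) (orderOf k) := by
    rw [hg, Nat.Prime.coprime_iff_not_dvd hp]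
    intro hd
    apply hK
    have : orderOf k ∣ Nat.card K := by
      have := orderOf_dvd_natCard (⟨k, hk⟩ : K)
      rwa [Subgroup.orderOf_mk] at this
    exact hd.trans this
  have hmul := Commute.orderOf_mul_eq_mul_orderOf_of_coprime (show Commute g k from hc) hcop
  have hle := hord (g * k)
  rw [hmul, hg] at hle
  have hpos := orderOf_pos k
  have h1 : orderOf k = 1 := by
    by_contra hne
    have h2 : 2 ≤ orderOf k := by omega
    have := Nat.mul_le_mul_left p h2
    omega
  exact orderOf_eq_one_iff.mp h1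

theorem no_normal_six {K : Subgroup G} [K.Normal] (hK : Nat.card K = 6) {g : G}
    (hg : orderOf g = 5) (hfix : ∀ k ∈ K, g * k = k * g → k = 1) : False := by
  haveI : Fact (Nat.Prime 3) := ⟨by norm_num⟩
  haveI : Fact (Nat.Prime 5) := ⟨by norm_num⟩
  have hK' : Nat.card K = 3 ^ 1 * 2 := by rw [hK]; norm_num
  have hdvd := Cfsg.Agent.Helper17.card_sylow_dvd_of_card_eq hK' (by norm_num)
  have hmod := card_sylow_modEq_one 3 K
  have h1 : Nat.card (Sylow 3 K) = 1 := by
    have hle := Nat.le_of_dvd (by norm_num) hdvd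
    unfold Nat.ModEq at hmod
    have hpos : 0 < Nat.card (Sylow 3 K) := Nat.card_pos
    omega
  haveI : Subsingleton (Sylow 3 K) := (Nat.card_eq_one_iff_unique.mp h1).1
  obtain ⟨P⟩ : Nonempty (Sylow 3 K) := inferInstance
  haveI : (P : Subgroup K).Characteristic := Sylow.characteristic_of_subsingleton P
  haveI : ((P : Subgroup K).map K.subtype).Normal := ConjAct.normal_of_characteristic_of_normal
  have hPc : Nat.card (P : Subgroup K) = 3 := by
    have := Cfsg.Agent.Helper17.card_sylow_subgroup_of_card_eq hK' (by norm_num) P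
    simpa using this
  have hQc : Nat.card ((P : Subgroup K).map K.subtype) = 3 := by
    rw [Subgroup.card_map_of_injective K.subtype_injective]
    exact hPc
  have := card_modEq_one_of_fpf (K := (P : Subgroup K).map K.subtype) hg (fun k hk hc =>
    hfix k (by obtain ⟨y, _, rfl⟩ := hk; exact y.2) hc)
  rw [hQc] at this
  exact absurd this (by decide)

theorem arith60 : ∀ m ∈ List.range 61, m ∣ 60 →
    (Nat.Coprime 5 (60 / m) → 25 ≤ m) → (Nat.Coprime 3 (60 / m) → 21 ≤ m) →
    (Nat.Coprime 3 (60 / m) → Nat.Coprime 5 (60 / m) → 45 ≤ m) → (5 ∣ m ∨ m % 5 = 1) →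
    m = 1 ∨ m = 60 := by decide +kernel

theorem arith360 : ∀ m ∈ List.range 361, m ∣ 360 →
    (Nat.Coprime 5 (360 / m) → 145 ≤ m) → (Nat.Coprime 3 (360 / m) → 81 ≤ m) →
    (Nat.Coprime 3 (360 / m) → Nat.Coprime 5 (360 / m) → 225 ≤ m) → (5 ∣ m ∨ m % 5 = 1) →
    m = 1 ∨ m = 6 ∨ m = 360 := by decide +kernel

/-- the common part of the two simplicity proofs -/
theorem normal_facts {N c3 c5 : ℕ} (hN : Nat.card G = N) (hord : ∀ x : G, orderOf x ≤ 5)
    (h3 : cnt G 3 = c3) (h5 : cnt G 5 = c5) (h50 : c5 ≠ 0) (K : Subgroup G) [K.Normal] :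
    Nat.card K ∣ N ∧
    (Nat.Coprime 5 (N / Nat.card K) → 1 + c5 ≤ Nat.card K) ∧
    (Nat.Coprime 3 (N / Nat.card K) → 1 + c3 ≤ Nat.card K) ∧
    (Nat.Coprime 3 (N / Nat.card K) → Nat.Coprime 5 (N / Nat.card K) →
      1 + c3 + c5 ≤ Nat.card K) ∧
    (5 ∣ Nat.card K ∨ Nat.card K % 5 = 1) ∧
    (¬ 5 ∣ Nat.card K → ∃ g : G, orderOf g = 5 ∧ ∀ k ∈ K, g * k = k * g → k = 1) := by
  have hmi : Nat.card K * K.index = N := by rw [K.card_mul_index, hN]
  have hm0 : 0 < Nat.card K := Nat.card_pos
  have hidx : N / Nat.card K = K.index := Nat.div_eq_of_eq_mul_right hm0 hmi.symm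
  obtain ⟨g, hg⟩ := cnt_ne_zero_iff.mp (show cnt G 5 ≠ 0 by rw [h5]; exact h50)
  have hfpf : ¬ 5 ∣ Nat.card K → ∀ k ∈ K, g * k = k * g → k = 1 := fun h5m =>
    eq_one_of_commute (by norm_num) hg h5m hord (by norm_num)
  rw [hidx]
  refine ⟨⟨K.index, hmi.symm⟩, ?_, ?_, ?_, ?_, ?_⟩
  · intro hc
    have := cnt_le_of_coprime K {1, 5} (by
      intro d hd
      simp only [Finset.mem_insert, Finset.mem_singleton] at hd
      rcases hd with rfl | rfl
      · exact Nat.coprime_one_left _
      · exact hc)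
    rwa [Finset.sum_pair (by norm_num), cnt_one, h5] at this
  · intro hc
    have := cnt_le_of_coprime K {1, 3} (by
      intro d hd
      simp only [Finset.mem_insert, Finset.mem_singleton] at hd
      rcases hd with rfl | rfl
      · exact Nat.coprime_one_left _
      · exact hc)
    rwa [Finset.sum_pair (by norm_num), cnt_one, h3] at this
  · intro hc3 hc5
    have := cnt_le_of_coprime K {1, 3, 5} (by
      intro d hd
      simp only [Finset.mem_insert, Finset.mem_singleton] at hd
      rcases hd with rfl | rfl | rfl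
      · exact Nat.coprime_one_left _
      · exact hc3
      · exact hc5)
    rw [Finset.sum_insert (by decide), Finset.sum_pair (by norm_num), cnt_one, h3, h5] at this
    omega
  · by_cases h5m : 5 ∣ Nat.card K
    · exact Or.inl h5m
    · right
      haveI : Fact (Nat.Prime 5) := ⟨by norm_num⟩
      exact card_modEq_one_of_fpf (K := K) hg (hfpf h5m)
  · intro h5m
    exact ⟨g, hg, hfpf h5m⟩

theorem simple_of_profile5 (hN : Nat.card G = 60) (hord : ∀ x : G, orderOf x ≤ 5)
    (h3 : cnt G 3 = 20) (h5 : cnt G 5 = 24) : IsSimpleGroup G := by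
  haveI : Nontrivial G := Finite.one_lt_card_iff_nontrivial.mp (by rw [hN]; norm_num)
  refine { eq_bot_or_eq_top_of_normal := fun K hK => ?_ }
  haveI := hK
  obtain ⟨hd, ha, hb, hc, he, -⟩ := normal_facts hN hord h3 h5 (by norm_num) K
  have hmem : Nat.card K ∈ List.range 61 :=
    List.mem_range.mpr (by have := Nat.le_of_dvd (by norm_num) hd; omega)
  rcases arith60 _ hmem hd ha hb hc he with h | h
  · exact Or.inl (Subgroup.eq_bot_of_card_eq K h)
  · exact Or.inr ((Subgroup.card_eq_iff_eq_top K).mp (h.trans hN.symm))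

theorem simple_of_profile6 (hN : Nat.card G = 360) (hord : ∀ x : G, orderOf x ≤ 5)
    (h3 : cnt G 3 = 80) (h5 : cnt G 5 = 144) : IsSimpleGroup G := by
  haveI : Nontrivial G := Finite.one_lt_card_iff_nontrivial.mp (by rw [hN]; norm_num)
  refine { eq_bot_or_eq_top_of_normal := fun K hK => ?_ }
  haveI := hK
  obtain ⟨hd, ha, hb, hc, he, hf⟩ := normal_facts hN hord h3 h5 (by norm_num) K
  have hmem : Nat.card K ∈ List.range 361 :=
    List.mem_range.mpr (by have := Nat.le_of_dvd (by norm_num) hd; omega)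
  rcases arith360 _ hmem hd ha hb hc he with h | h | h
  · exact Or.inl (Subgroup.eq_bot_of_card_eq K h)
  · exfalso
    obtain ⟨g, hg, hfix⟩ := hf (by rw [h]; norm_num)
    exact no_normal_six h hg hfix
  · exact Or.inr ((Subgroup.card_eq_iff_eq_top K).mp (h.trans hN.symm))

/-- in a group with the order profile of `A₄` no involution is central -/
theorem no_central_involution (hN : Nat.card G = 12) (hord : ∀ x : G, orderOf x ≤ 3) :
    ∀ z : G, orderOf z = 2 → z ∉ Subgroup.center G := by
  intro z hz hzc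
  haveI : Fact (Nat.Prime 3) := ⟨by norm_num⟩
  obtain ⟨g, hg⟩ := exists_prime_orderOf_dvd_card' (G := G) 3 (by rw [hN]; norm_num)
  have hcomm : Commute z g := (Subgroup.mem_center_iff.mp hzc g).symm
  have hmul := Commute.orderOf_mul_eq_mul_orderOf_of_coprime hcomm (by rw [hz, hg]; norm_num)
  have := hord (z * g)
  rw [hmul, hz, hg] at this
  omega

end Cfsg.Agent.Helper39.Nse
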