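import Mathlib

/-!
# A verified search for "order profiles"

`s k` is meant to be the number of elements of order `k` of a group of order `N`.  The search
enumerates all assignments of values (from a finite list) to the divisors of `N` compatible with
Frobenius' divisibility `k ∣ ∑_{d ∣ k} s d`, with closure under divisors, with parity and with
`∑ s = N`; `mem_solutions` says that the true profile is found.
-/

set_option autoImplicit false

namespace Cfsg.Agent.Helper39.Nse

/-- positive divisors of `N` in increasing order -/
def keys (N : ℕ) : List ℕ := (List.range (N + 1)).filter (fun d => decide (0 < d) && decide (d ∣ N))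

/-- sum of the assigned values over the keys dividing `k` -/
def dsum (A : List (ℕ × ℕ)) (k : ℕ) : ℕ :=
  ((A.filter (fun p => decide (p.1 ∣ k))).map Prod.snd).sum

/-- all assigned values at keys dividing `k` are nonzero -/
def dpos (A : List (ℕ × ℕ)) (k : ℕ) : Bool :=
  (A.filter (fun p => decide (p.1 ∣ k))).all (fun p => decide (p.2 ≠ 0))

/-- admissibility of the value `v` at the key `k`, given the assignment `A` of the smaller keys -/
def okv (A : List (ℕ × ℕ)) (k v : ℕ) : Bool :=
  decide (k ∣ dsum A k + v) && (decide (v = 0) || dpos A k) &&
    (decide (k ≤ 2) || decide (v % 2 = 0))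

/-- candidate values at the key `k` -/
def candOf (vals : List ℕ) (k : ℕ) : List ℕ := if k = 1 then [1] else 0 :: vals

/-- backtracking search -/
def search (vals : List ℕ) : List ℕ → List (ℕ × ℕ) → List (List (ℕ × ℕ))
  | [], A => [A]
  | k :: ks, A =>
    ((candOf vals k).filter (okv A k)).flatMap (fun v => search vals ks (A ++ [(k, v)]))

/-- final test: the values add up to `N` and every value of `vals` occurs -/
def good (N : ℕ) (vals : List ℕ) (A : List (ℕ × ℕ)) : Bool :=
  decide ((A.map Prod.snd).sum = N) && vals.all (fun v => (A.map Prod.snd).contains v)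

/-- all profiles for `N` with values in `vals` -/
def solutions (N : ℕ) (vals : List ℕ) : List (List (ℕ × ℕ)) :=
  (search vals (keys N) []).filter (good N vals)

/-- the assignment given by a function -/
def assign (s : ℕ → ℕ) (l : List ℕ) : List (ℕ × ℕ) := l.map (fun k => (k, s k))

theorem assign_append (s : ℕ → ℕ) (l₁ l₂ : List ℕ) :
    assign s (l₁ ++ l₂) = assign s l₁ ++ assign s l₂ := by
  simp [assign]

theorem search_complete (vals : List ℕ) (s : ℕ → ℕ) :
    ∀ (ks done : List ℕ),
      (∀ pre k post, ks = pre ++ k :: post →
        s k ∈ candOf vals k ∧ okv (assign s (done ++ pre)) k (s k) = true) →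
      assign s (done ++ ks) ∈ search vals ks (assign s done) := by
  intro ks
  induction ks with
  | nil =>
    intro done _
    simp [search]
  | cons k ks ih =>
    intro done h
    rw [search, List.mem_flatMap]
    obtain ⟨h1, h2⟩ := h [] k ks rfl
    rw [List.append_nil] at h2
    refine ⟨s k, List.mem_filter.mpr ⟨h1, h2⟩, ?_⟩
    have e1 : assign s done ++ [(k, s k)] = assign s (done ++ [k]) := by
      simp [assign]
    have e2 : done ++ k :: ks = (done ++ [k]) ++ ks := by simp
    rw [e1, e2]
    apply ih
    intro pre k' post hks
    have := h (k :: pre) k' post (by rw [hks]; rfl)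
    have e3 : done ++ [k] ++ pre = done ++ k :: pre := by simp
    rw [e3]
    exact this

end Cfsg.Agent.Helper39.Nse
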